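import Groth.Agent.Lib.RefHull.HomSh
import Groth.Agent.H78.Formal.Elem
import Mathlib.RingTheory.Filtration

/-!
# Morphisms of completions of coherent modules come from the sheaf Hom

If formal functions hold in degree zero for `homSh F G`, every morphism of completions `F^ ⟶ G^` is induced by a
unique morphism `F ⟶ G`.
-/

universe u v

noncomputable section

open CategoryTheory Limits AlgebraicGeometry TopologicalSpace Opposite

set_option linter.style.haveILetI false

namespace Groth.Agent.Lib.FormalHom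

/-! ### Artin–Rees -/

theorem exists_mem_map_smul {B : Type u} [CommRing B] [IsNoetherianRing B] (J : Ideal B)
    {P Q : Type v} [AddCommGroup P] [Module B P] [AddCommGroup Q] [Module B Q] [Module.Finite B Q]
    (f : P →ₗ[B] Q) : ∃ d : ℕ, ∀ (n : ℕ) (p : P),
      f p ∈ J ^ (n + d) • (⊤ : Submodule B Q) → ∃ u ∈ J ^ n • (⊤ : Submodule B P), f p = f u := by
  obtain ⟨k, hk⟩ := J.exists_pow_inf_eq_pow_smul (LinearMap.range f)
  refine ⟨k, fun n p hp => ?_⟩
  have h2 : f p ∈ J ^ (n + k - k) • (J ^ k • ⊤ ⊓ LinearMap.range f) :=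
    hk (n + k) (Nat.le_add_left k n) ▸ ⟨hp, LinearMap.mem_range_self f p⟩
  rw [Nat.add_sub_cancel] at h2
  have h3 : f p ∈ J ^ n • LinearMap.range f := Submodule.smul_mono le_rfl inf_le_right h2
  rw [LinearMap.range_eq_map, ← Submodule.map_smul''] at h3
  obtain ⟨u, hu, e⟩ := h3
  exact ⟨u, hu, e.symm⟩

theorem apply_mem_of_mem_smul {B : Type u} [CommRing B] (J : Ideal B)
    {P Q : Type v} [AddCommGroup P] [Module B P] [AddCommGroup Q] [Module B Q] (f : P →ₗ[B] Q)
    {p : P} (hp : p ∈ J • (⊤ : Submodule B P)) : f p ∈ J • (⊤ : Submodule B Q) :=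
  Submodule.smul_top_le_comap_smul_top J f hp

theorem pi_mem {B : Type u} [CommRing B] (J : Ideal B) {Q : Type v} [AddCommGroup Q] [Module B Q]
    {k : ℕ} {v : Fin k → Q} (hv : ∀ i, v i ∈ J • (⊤ : Submodule B Q)) :
    v ∈ J • (⊤ : Submodule B (Fin k → Q)) := by
  classical
  have e : v = ∑ i, LinearMap.single B (fun _ : Fin k => Q) i (v i) := by
    funext j
    simp [Finset.sum_apply, Pi.single_apply]
  rw [e]
  exact Submodule.sum_mem _ fun i _ => apply_mem_of_mem_smul J _ (hv i)

/-! ### Sections of the sheaf Hom inducing a map to a quotient -/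

open Groth.Agent.Lib Groth.Agent.Lib.CohBasics.Affine Groth.Agent.Lib.RefHull.SecHom Groth.Agent.Lib.RefHull.HomSh
  Groth.Agent.Lib.TensorMod.Dual
open Groth.Agent.H78.Formal.Sections Groth.Agent.H78.Formal.Sys Groth.Agent.H78.Formal.Elem
open Groth.Agent.Lib.Modules.StalkModule (stalkMapₗ stalkMapₗ_germ stalkMapₗ_comp stalkMapₗ_zero
  hom_ext_stalkMapₗ)

variable {A : Type u} [CommRing A] {X : Scheme.{u}} [X.Over (Spec (CommRingCat.of A))]
variable {I : Ideal A} {F G : X.Modules}

/-- `g` induces `χ` after reduction modulo `I^(n+1)`. -/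
def Rel (n : ℕ) (χ : F ⟶ (_root_.Formal.completion I G).obj (op n)) {U : X.Opens}
    (g : Γ(RefHull.homSh F G, U)) : Prop :=
  ∀ y : U, (stalkMapₗ (cπ I G n) y.1).comp (g.1 y) = stalkMapₗ χ y.1

lemma rel_res {n : ℕ} {χ : F ⟶ (_root_.Formal.completion I G).obj (op n)} {U V : X.Opens}
    (hV : V ≤ U) {g : Γ(RefHull.homSh F G, U)} (h : Rel n χ g) :
    Rel n χ (rs (RefHull.homSh F G) hV g) := fun y => h ⟨y.1, hV y.2⟩

lemma rel_mono {n m : ℕ} (hnm : n ≤ m) {χn : F ⟶ (_root_.Formal.completion I G).obj (op n)}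
    {χm : F ⟶ (_root_.Formal.completion I G).obj (op m)}
    (hχ : χm ≫ (_root_.Formal.completion I G).map (homOfLE hnm).op = χn) {U : X.Opens}
    {g : Γ(RefHull.homSh F G, U)} (h : Rel m χm g) : Rel n χn g := fun y => by
  rw [← hχ, ← cπ_comp I G hnm, stalkMapₗ_comp, stalkMapₗ_comp, LinearMap.comp_assoc, h y]

lemma rel_zero_sub {n : ℕ} {χ : F ⟶ (_root_.Formal.completion I G).obj (op n)} {U : X.Opens}
    {g g' : Γ(RefHull.homSh F G, U)} (h : Rel n χ g) (h' : Rel n χ g') :
    Rel n (0 : F ⟶ (_root_.Formal.completion I G).obj (op n)) (g - g') :=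
  fun y => by
    rw [show (g - g').1 y = g.1 y - g'.1 y from rfl, LinearMap.comp_sub, h y, h' y, sub_self,
      stalkMapₗ_zero]

lemma rel_of_sub {n : ℕ} {χ : F ⟶ (_root_.Formal.completion I G).obj (op n)} {U : X.Opens}
    {g g' : Γ(RefHull.homSh F G, U)}
    (h : Rel n (0 : F ⟶ (_root_.Formal.completion I G).obj (op n)) (g - g')) (h' : Rel n χ g') :
    Rel n χ g :=
  fun y => by
    have e := h y
    rw [show (g - g').1 y = g.1 y - g'.1 y from rfl, LinearMap.comp_sub, h' y, stalkMapₗ_zero,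
      sub_eq_zero] at e
    exact e

lemma rel_iff [F.IsQuasicoherent] {n : ℕ} {χ : F ⟶ (_root_.Formal.completion I G).obj (op n)}
    {U : X.Opens} (hU : IsAffineOpen U) (g : Γ(RefHull.homSh F G, U)) :
    Rel n χ g ↔ ∀ s : Γ(F, U), (cπ I G n).app U (app g le_rfl s) = χ.app U s := by
  constructor
  · intro h s
    refine sec_ext fun y hy => ?_
    rw [← stalkMapₗ_germ (cπ I G n) hy, germ_app, ← stalkMapₗ_germ χ hy, ← h ⟨y, hy⟩]
    rfl
  · intro h y
    refine stalk_ext hU y.2 fun m => ?_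
    rw [LinearMap.comp_apply, stalkMapₗ_germ χ y.2, ← h m, ← stalkMapₗ_germ (cπ I G n) y.2, germ_app]

lemma rel_zero_of_cπ_eq_zero [F.IsQuasicoherent] [G.IsQuasicoherent]
    [(RefHull.homSh F G).IsQuasicoherent] {n : ℕ} {U : X.Opens} (hU : IsAffineOpen U)
    {g : Γ(RefHull.homSh F G, U)} (h : (cπ I (RefHull.homSh F G) n).app U g = 0) :
    Rel (I := I) n 0 g := by
  rw [rel_iff hU]
  intro s
  refine ((cπ_eq_zero_iff I n hU _).mpr ?_).trans rfl
  refine Submodule.smul_induction_on ((cπ_eq_zero_iff I n hU g).mp h) (fun r hr m _ => ?_)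
    fun a b ha hb => ?_
  · rw [app_smul_left, rf_self]
    exact Submodule.smul_mem_smul hr trivial
  · have e : app (a + b) le_rfl s = app a le_rfl s + app b le_rfl s := sec_ext fun y hy => by
      rw [map_add, germ_app, germ_app, germ_app]; rfl
    rw [e]
    exact Submodule.add_mem _ ha hb

/-- On an affine open, sections inducing zero modulo a large power are small. -/
theorem exists_bound [IsLocallyNoetherian X] (hF : Coh.IsCoh F) (hG : Coh.IsCoh G) {U : X.Opens}
    (hU : IsAffineOpen U) (n : ℕ) : ∃ K : ℕ, ∀ g : Γ(RefHull.homSh F G, U), Rel (I := I) K 0 g →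
      (cπ I (RefHull.homSh F G) n).app U g = 0 := by
  haveI := hF.1
  haveI := hG.1
  haveI := isQCoh_homSh hF hG.1
  haveI : IsNoetherianRing Γ(X, U) := IsLocallyNoetherian.component_noetherian ⟨U, hU⟩
  haveI := CohBasics.Closure.finite_sections hF hU
  haveI := CohBasics.Closure.finite_sections hG hU
  obtain ⟨k, m, hm⟩ := Module.Finite.exists_fin (R := Γ(X, U)) (M := Γ(F, U))
  let ev : Γ(RefHull.homSh F G, U) →ₗ[Γ(X, U)] (Fin k → Γ(G, U)) :=
    { toFun := fun g i => app g le_rfl (m i)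
      map_add' := fun a b => funext fun i => sec_ext fun y hy => by
        rw [Pi.add_apply, map_add, germ_app, germ_app, germ_app]; rfl
      map_smul' := fun r a => funext fun i => by
        rw [RingHom.id_apply, Pi.smul_apply, app_smul_left, rf_self] }
  obtain ⟨d, hd⟩ := exists_mem_map_smul (sIdeal I U) ev
  refine ⟨n + d, fun g hg => ?_⟩
  rw [rel_iff hU] at hg
  have hmem : ev g ∈ sIdeal I U ^ (n + 1 + d) • (⊤ : Submodule Γ(X, U) (Fin k → Γ(G, U))) :=
    pi_mem _ fun i => by
      rw [show n + 1 + d = n + d + 1 by omega]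
      exact (cπ_eq_zero_iff I (n + d) hU _).mp ((hg (m i)).trans rfl)
  obtain ⟨w, hw, e⟩ := hd (n + 1) g hmem
  have hgw : g = w := sec_ext_of_gens hU le_rfl hm (by
    rintro _ ⟨i, rfl⟩
    rw [rs_self]
    exact congrFun e i)
  rw [cπ_eq_zero_iff I n hU, hgw]
  exact hw

/-- On an affine open, every compatible family of maps to the quotients is induced modulo each power. -/
theorem exists_local [IsLocallyNoetherian X] (hF : Coh.IsCoh F) (hG : Coh.IsCoh G)
    (χ : ∀ n, F ⟶ (_root_.Formal.completion I G).obj (op n))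
    (hχ : ∀ {n m : ℕ} (h : n ≤ m), χ m ≫ (_root_.Formal.completion I G).map (homOfLE h).op = χ n)
    {U : X.Opens} (hU : IsAffineOpen U) (n : ℕ) :
    ∃ g : Γ(RefHull.homSh F G, U), Rel n (χ n) g := by
  haveI := hF.1
  haveI := hG.1
  haveI : IsNoetherianRing Γ(X, U) := IsLocallyNoetherian.component_noetherian ⟨U, hU⟩
  haveI := CohBasics.Closure.finite_sections hF hU
  haveI := CohBasics.Closure.finite_sections hG hU
  obtain ⟨k, l, m, r, hm, hr, hlift⟩ := exists_gens_rels Γ(X, U) Γ(F, U)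
  let ρ : (Fin k → Γ(G, U)) →ₗ[Γ(X, U)] (Fin l → Γ(G, U)) :=
    { toFun := fun v j => ∑ i, r j i • v i
      map_add' := fun a b => funext fun j => by
        simp only [Pi.add_apply, smul_add, Finset.sum_add_distrib]
      map_smul' := fun c a => funext fun j => by
        rw [RingHom.id_apply, Pi.smul_apply, Finset.smul_sum]
        exact Finset.sum_congr rfl fun i _ => by rw [Pi.smul_apply, smul_comm] }
  obtain ⟨d, hd⟩ := exists_mem_map_smul (sIdeal I U) ρ
  choose v hv using fun i => cπ_surjective I (n + d) hU ((χ (n + d)).app U (m i))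
  have hρ : ρ v ∈ sIdeal I U ^ (n + 1 + d) • (⊤ : Submodule Γ(X, U) (Fin l → Γ(G, U))) :=
    pi_mem _ fun j => by
      rw [show n + 1 + d = n + d + 1 by omega]
      refine (cπ_eq_zero_iff I (n + d) hU _).mp ?_
      change secₗ (cπ I G (n + d)) U (∑ i, r j i • v i) = 0
      rw [map_sum]
      refine (Finset.sum_congr rfl fun i _ => ?_).trans ((map_sum (secₗ (χ (n + d)) U)
        (fun i => r j i • m i) Finset.univ).symm.trans (by rw [hr j, map_zero]))
      rw [map_smul, map_smul, secₗ_apply, secₗ_apply, hv]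
  obtain ⟨w, hw, e⟩ := hd (n + 1) v hρ
  obtain ⟨φ, hφ⟩ := hlift Γ(G, U) (fun i => v i - w i) fun j => by
    have := congrFun e j
    simp only [smul_sub, Finset.sum_sub_distrib]
    exact sub_eq_zero.mpr this
  obtain ⟨g, hg⟩ := exists_sec_of_linear hU le_rfl φ.toAddMonoidHom fun a b => by
    rw [rf_self]; exact φ.map_smul a b
  refine ⟨g, (rel_iff hU g).mpr fun s => ?_⟩
  have key : (secₗ (cπ I G n) U).comp (app g le_rfl) = secₗ (χ n) U := by
    refine LinearMap.ext_on_range hm fun i => ?_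
    have e1 : app g le_rfl (m i) = v i - w i := by
      have := hg (m i)
      rw [rs_self] at this
      exact this.trans (hφ i)
    have e2 : secₗ (cπ I G n) U (w i) = 0 :=
      (cπ_eq_zero_iff I n hU _).mpr (apply_mem_of_mem_smul _ (LinearMap.proj i) hw)
    rw [LinearMap.comp_apply, e1, map_sub, e2, sub_zero, secₗ_apply, secₗ_apply,
      ← completion_π_tr I G (Nat.le_add_right n d) (v i), hv]
    exact app_eq (hχ (Nat.le_add_right n d)) U (m i)
  exact LinearMap.congr_fun key s

/-! ### Global sections and morphisms -/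

/-- The morphism given by a global section of the sheaf Hom. -/
def homOfSec (g : Γ(RefHull.homSh F G, ⊤)) : F ⟶ G :=
  ⟨PresheafOfModules.homMk
    { app := fun V => AddCommGrpCat.ofHom (app g (le_top : V.unop ≤ ⊤)).toAddMonoidHom
      naturality := fun {V W} i => by
        ext s
        change app g le_top (F.presheaf.map i s) = G.presheaf.map i (app g le_top s)
        refine sec_ext fun y hy => ?_
        rw [germ_app, TopCat.Presheaf.germ_res_apply' F.presheaf i y hy,
          TopCat.Presheaf.germ_res_apply' G.presheaf i y hy, germ_app] }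
    fun V a s => (app g (le_top : V.unop ≤ ⊤)).map_smul a s⟩

lemma stalkMapₗ_homOfSec (g : Γ(RefHull.homSh F G, ⊤)) (y : X) :
    stalkMapₗ (homOfSec g) y = g.1 ⟨y, trivial⟩ := LinearMap.ext fun v => by
  obtain ⟨V, hy, s, rfl⟩ := TopCat.Presheaf.exists_germ_eq F.presheaf v
  exact (stalkMapₗ_germ (homOfSec g) hy s).trans (germ_app g le_top s y hy)

lemma ofHom_val (φ : F ⟶ G) {U : X.Opens} (y : U) :
    (RefHull.ofHom φ U).1 y = stalkMapₗ φ y.1 := LinearMap.ext fun v => by
  obtain ⟨V, hy, s, rfl⟩ := TopCat.Presheaf.exists_germ_eq F.presheaf v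
  rw [RefHull.ofHom_apply]
  exact (RefHull.stalkMapₗ_germ φ y.1 hy s).trans (stalkMapₗ_germ φ hy s).symm

/-- **Morphisms of completions**: with formal functions in degree zero for the sheaf Hom, completion
is fully faithful on the pair `(F, G)`. -/
theorem existsUnique [IsLocallyNoetherian X] (hF : Coh.IsCoh F) (hG : Coh.IsCoh G)
    (hinj : ∀ s : Γ(RefHull.homSh F G, ⊤),
      (∀ n, (_root_.Formal.modPowπ I (n + 1) (RefHull.homSh F G)).app ⊤ s = 0) → s = 0)
    (hsurj : ∀ c : ∀ n, Γ(_root_.Formal.modPow I (n + 1) (RefHull.homSh F G), ⊤),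
      (∀ n, (_root_.Formal.modPowTrans I (n + 1) (RefHull.homSh F G)).app ⊤ (c (n + 1)) = c n) →
      ∃ s, ∀ n, (_root_.Formal.modPowπ I (n + 1) (RefHull.homSh F G)).app ⊤ s = c n)
    (ψ : _root_.Formal.completion I F ⟶ _root_.Formal.completion I G) :
    ∃! φ : F ⟶ G, ∀ n : ℕ, _root_.Formal.modPowπ I (n + 1) F ≫ ψ.app (op n) =
      φ ≫ _root_.Formal.modPowπ I (n + 1) G := by
  haveI := hF.1
  haveI := hG.1
  haveI := isQCoh_homSh hF hG.1
  let χ : ∀ n, F ⟶ (_root_.Formal.completion I G).obj (op n) := fun n => cπ I F n ≫ ψ.app (op n)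
  have hχ : ∀ {n m : ℕ} (h : n ≤ m),
      χ m ≫ (_root_.Formal.completion I G).map (homOfLE h).op = χ n := fun {n m} h => by
    simp only [χ]
    rw [Category.assoc, ← ψ.naturality, ← Category.assoc, cπ_comp]
  let H := RefHull.homSh F G
  let idx := {U : X.Opens // IsAffineOpen U}
  choose g hg using fun (U : idx) (n : ℕ) => exists_local hF hG χ hχ U.2 n
  choose K hK using fun (U : idx) (n : ℕ) => exists_bound (I := I) hF hG U.2 n
  let h : ∀ (n : ℕ) (U : idx), Γ((_root_.Formal.completion I H).obj (op n), U.1) :=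
    fun n U => (cπ I H n).app U.1 (g U (K U n))
  have huniq : ∀ (n : ℕ) (U : idx) (m : ℕ) (g' : Γ(H, U.1)), K U n ≤ m → Rel m (χ m) g' →
      (cπ I H n).app U.1 g' = h n U := fun n U m g' hm hg' => by
    rw [← sub_eq_zero, ← map_sub]
    exact hK U n _ (rel_zero_sub (rel_mono hm (hχ hm) hg') (hg U _))
  have hres : ∀ (n : ℕ) (U W : idx) (hW : W.1 ≤ U.1), rs _ hW (h n U) = h n W := fun n U W hW => by
    rw [← huniq n U (max (K U n) (K W n)) _ (le_max_left _ _) (hg U _)]
    refine Eq.trans ?_ (huniq n W (max (K U n) (K W n)) _ (le_max_right _ _) (rel_res hW (hg U _)))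
    exact (ConcreteCategory.congr_hom ((cπ I H n).mapPresheaf.naturality (homOfLE hW).op) _).symm
  have hglue : ∀ n, ∃ c : Γ(_root_.Formal.modPow I (n + 1) H, ⊤),
      ∀ U : idx, rs _ le_top c = h n U := fun n => by
    let C := (_root_.Formal.completion I H).obj (op n)
    have comp : TopCat.Presheaf.IsCompatible C.presheaf (fun U : idx => U.1) (h n) := fun U V => by
      refine sec_ext fun y hy => ?_
      obtain ⟨W, hW, hyW, hle⟩ := exists_isAffineOpen_mem_and_subset (X := X) (x := y)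
        (U := U.1 ⊓ V.1) hy
      erw [TopCat.Presheaf.germ_res_apply, TopCat.Presheaf.germ_res_apply]
      rw [← germ_rs (M := C) (fun z hz => (hle hz).1) hyW,
        ← germ_rs (M := C) (fun z hz => (hle hz).2) hyW, hres n U ⟨W, hW⟩, hres n V ⟨W, hW⟩]
    obtain ⟨c, hc, -⟩ := TopCat.Sheaf.existsUnique_gluing' (⟨C.presheaf, C.isSheaf⟩ : TopCat.Sheaf Ab X)
      (fun U : idx => U.1) ⊤ (fun U => homOfLE le_top) (fun y _ => by
        obtain ⟨W, hW, hy⟩ := exists_affine y
        exact Opens.mem_iSup.mpr ⟨⟨W, hW⟩, hy⟩) (h n) comp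
    exact ⟨c, hc⟩
  choose c hc using hglue
  have hsec : ∀ {N : X.Modules} (a b : Γ(N, ⊤)),
      (∀ U : idx, rs N (le_top : U.1 ≤ ⊤) a = rs N le_top b) → a = b := fun a b hab => by
    refine sec_ext fun y hy => ?_
    obtain ⟨W, hW, hyW⟩ := exists_affine y
    rw [← germ_rs (le_top : W ≤ ⊤) hyW, ← germ_rs (le_top : W ≤ ⊤) hyW, hab ⟨W, hW⟩]
  obtain ⟨s, hs⟩ := hsurj c fun n => hsec _ _ fun U => by
    refine (ConcreteCategory.congr_hom
      ((_root_.Formal.modPowTrans I (n + 1) H).mapPresheaf.naturality (homOfLE le_top).op)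
      (c (n + 1))).symm.trans ?_
    change (_root_.Formal.modPowTrans I (n + 1) H).app U.1 (rs _ le_top (c (n + 1))) = rs _ le_top (c n)
    rw [hc (n + 1) U, hc n U, ← huniq (n + 1) U (max (K U (n + 1)) (K U n)) _ (le_max_left _ _) (hg U _)]
    exact (app_eq (_root_.Formal.modPowπ_trans I (n + 1) H) U.1 _).trans
      (huniq n U _ _ (le_max_right _ _) (hg U _))
  have hrel : ∀ n, Rel n (χ n) s := fun n y => by
    obtain ⟨W, hW, hyW⟩ := exists_affine y.1
    let U : idx := ⟨W, hW⟩
    have e : (cπ I H n).app W (rs H le_top s - g U (max (K U n) n)) = 0 := by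
      rw [map_sub, huniq n U _ _ (le_max_left _ _) (hg U _), sub_eq_zero, ← hc n U, ← hs n]
      exact ConcreteCategory.congr_hom ((cπ I H n).mapPresheaf.naturality
        (homOfLE (le_top : W ≤ ⊤)).op) s
    exact rel_of_sub (rel_zero_of_cπ_eq_zero hW e)
      (rel_mono (le_max_right _ _) (hχ _) (hg U _)) ⟨y.1, hyW⟩
  refine ⟨homOfSec s, fun n => ?_, fun φ hφ => ?_⟩
  · change χ n = homOfSec s ≫ cπ I G n
    refine (hom_ext_stalkMapₗ fun y => ?_).symm
    rw [stalkMapₗ_comp, stalkMapₗ_homOfSec]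
    exact hrel n ⟨y, trivial⟩
  have hφrel : ∀ n, Rel n (χ n) (RefHull.ofHom φ ⊤) := fun n y => by
    rw [ofHom_val, ← stalkMapₗ_comp]
    exact congrArg (stalkMapₗ · y.1) (hφ n).symm
  have h0 : RefHull.ofHom φ ⊤ - s = 0 := hinj _ fun n => hsec _ _ fun U => by
    refine (ConcreteCategory.congr_hom ((cπ I H n).mapPresheaf.naturality
      (homOfLE (le_top : U.1 ≤ ⊤)).op) _).symm.trans ?_
    change (cπ I H n).app U.1 (rs H le_top (RefHull.ofHom φ ⊤ - s)) = rs _ le_top 0
    rw [hK U n _ (rel_res le_top (rel_zero_sub (hφrel _) (hrel _)))]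
    exact (map_zero _).symm
  refine hom_ext_stalkMapₗ fun y => ?_
  rw [stalkMapₗ_homOfSec, ← ofHom_val φ (U := ⊤) ⟨y, trivial⟩, sub_eq_zero.mp h0]

end Groth.Agent.Lib.FormalHom
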